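import Cfsg.Agent.Lib.FFourLocal.CTSix.PinData
import Cfsg.Agent.Lib.FFourLocal.Kill.Defs

/-!
# The unipotent radical of an involution of the model, and the largest invariant 2-subgroup of `C(t)`

`uniG τ` is the stabilizer of the series `0 ≤ [V, τ] ≤ C_V(τ) ≤ V` acting trivially on the first two factors.
`Rad E T R` says that `R` is the largest 2-subgroup of `C(T)` invariant under the part of `E` commuting with `T`.
-/

set_option autoImplicit false

namespace Cfsg.Agent.FFourLocal.CTSix

open Subgroup Cfsg.Agent.SpThreeCent.SixEnd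
open Cfsg.Agent.FFourLocal.Lift (app lin)

/-- The elements fixing `[V, τ]` and moving the fixed vectors of `τ` inside `[V, τ]`. -/
def Uni (τ x : S) : Prop :=
  (∀ v, app x (vadd (app τ v) v) = vadd (app τ v) v) ∧
    ∀ v, app τ v = v → ∃ w, vadd (app x v) v = vadd (app τ w) w

instance (τ x : S) : Decidable (Uni τ x) := inferInstanceAs (Decidable (_ ∧ _))

theorem vadd_assoc' (a b c : Fin 64) : vadd (vadd a b) c = vadd a (vadd b c) := by
  refine Fin.ext ?_
  rw [vadd_val, vadd_val, vadd_val, vadd_val, Nat.xor_assoc]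

theorem vadd_self' : ∀ a : Fin 64, vadd a a = 0 ∧ vadd 0 a = a ∧ vadd a 0 = a := by decide +kernel

theorem vadd_comm' : ∀ a b : Fin 64, vadd a b = vadd b a := by decide +kernel

/-- The radical of `τ`. -/
def uniG (τ : S) : Subgroup S where
  carrier := {x | Uni τ x}
  one_mem' := ⟨fun _ => rfl, fun v _ => ⟨0, by
    show vadd v v = vadd (app τ 0) 0
    rw [(lin τ 0 0).2.2, (vadd_self' v).1, (vadd_self' 0).1]⟩⟩
  mul_mem' := by
    rintro x y ⟨hx1, hx2⟩ ⟨hy1, hy2⟩
    refine ⟨fun v => ?_, fun v hv => ?_⟩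
    · show app x (app y _) = _
      rw [hy1, hx1]
    · obtain ⟨w1, e1⟩ := hx2 v hv
      obtain ⟨w2, e2⟩ := hy2 v hv
      refine ⟨vadd w1 w2, ?_⟩
      have ey : app y v = vadd (vadd (app τ w2) w2) v := by
        rw [← e2, vadd_assoc', (vadd_self' v).1, (vadd_self' _).2.2]
      show vadd (app x (app y v)) v = _
      rw [ey, (lin x _ _).2.1, hx1, (lin τ w1 w2).2.1, vadd_assoc', e1,
        ← vadd_assoc' (vadd (app τ w2) w2), vadd_comm' (vadd (app τ w2) w2) (app τ w1), vadd_assoc',
        vadd_assoc', vadd_assoc', vadd_comm' w2 w1]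
  inv_mem' := by
    rintro x ⟨hx1, hx2⟩
    have h1 : ∀ v, (app x).symm (vadd (app τ v) v) = vadd (app τ v) v := fun v =>
      (Equiv.symm_apply_eq _).2 (hx1 v).symm
    refine ⟨h1, fun v hv => ?_⟩
    obtain ⟨w, e⟩ := hx2 v hv
    refine ⟨w, ?_⟩
    show vadd ((app x).symm v) v = _
    have ex : app x v = vadd (vadd (app τ w) w) v := by
      rw [← e, vadd_assoc', (vadd_self' v).1, (vadd_self' _).2.2]
    have hv' : app x (vadd (vadd (app τ w) w) v) = v := by
      rw [(lin x _ _).2.1, hx1, ex, ← vadd_assoc', (vadd_self' _).1, (vadd_self' v).2.1]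
    rw [(Equiv.symm_apply_eq _).2 hv'.symm, vadd_assoc', (vadd_self' v).1, (vadd_self' _).2.2]

theorem mem_uniG {τ x : S} : x ∈ uniG τ ↔ Uni τ x := Iff.rfl

universe u

/-- The largest invariant 2-subgroup of `C(T)`. -/
structure Rad {G : Type u} [Group G] (E : Subgroup G) (T : G) (R : Subgroup G) : Prop where
  inv : Kill.Inv2 E T R
  top : ∀ K, Kill.Inv2 E T K → K ≤ R

end Cfsg.Agent.FFourLocal.CTSix
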