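import Cfsg.Agent.Lib.FFourLocal.CTSix.PinData

/-!
# The pin: two copies of `Sp₄(2)` glued along elements of order three

`φ` and `Φ` embed the model, `φ` carries the involutions of `Fix` into `Φ Fix` and `px 1`, `px 2` to the
images of `ax1`, `ax2`. Then up to one element of `Fix` the root elements correspond long to short.
-/

set_option autoImplicit false
set_option maxRecDepth 100000
set_option linter.style.longLine false

namespace Cfsg.Agent.FFourLocal.CTSix

open Cfsg.Agent.SpThreeCent.SixEnd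
open Cfsg.Agent.FFourLocal.Lift (app lin)

universe u

namespace Pin

theorem tvS_sq (x : Fin 64) : tvS x * tvS x = 1 :=
  Subtype.ext (Equiv.ext fun v => tvFun_invol x v)

theorem tvS_comm {x v : Fin 64} (h : bil x v = false) : Commute (tvS x) (tvS v) := by
  have h' := Lift.tvS_conj (tvS x) v
  rw [Lift.tvS_apply, tvFun, h, if_neg (by simp)] at h'
  exact mul_inv_eq_iff_eq_mul.1 h'

theorem ne_fix {g h : S} (hg : Fix g) (hh : Fix h) (hne : g ≠ h) :
    ¬ ∀ v ∈ four, app g v = app h v := fun e => hne (ext_fix hg hh e)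

theorem one_fix : Fix (1 : S) := ⟨rfl, rfl⟩

theorem eq_cA {A : S} (hA : Fix A) (h2 : A * A = 1) (hi : A * ax1 * A = ax1⁻¹)
    (hc : Commute A ax2) : ∃ i, A = el (cA i) := by
  obtain ⟨o2, o4, -⟩ := model_facts.1
  obtain ⟨-, -, e12, e14, -, -, -, e32⟩ := model_facts.2.2.2.2.1
  have hinv : ∀ v, app A (app A v) = v := fun v => (congrArg (fun g : S => app g v) h2 : _)
  have hi' : A * ax1 = iax1 * A := by
    rw [← ax_inv.1, ← hi]
    calc A * ax1 = A * ax1 * (A * A) := by rw [h2, mul_one]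
      _ = _ := by group
  have a16 : app A 16 = app iax1 (app A 2) := by
    rw [← e12]; exact (congrArg (fun g : S => app g 2) hi' : _)
  have a36 : app A 36 = app iax1 (app A 4) := by
    rw [← e14]; exact (congrArg (fun g : S => app g 4) hi' : _)
  have a32 : app A 32 = vadd (app A 4) (app iax1 (app A 4)) := by
    rw [← a36, ← (lin A 4 36).2.1, e32]
  have hev : ∀ y, app A y = ev (app A 2) (app iax1 (app A 2)) (app A 4)
      (vadd (app A 4) (app iax1 (app A 4))) y := fun y => by rw [app_eq_ev hA y, a16, a32]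
  obtain ⟨i, hi''⟩ := candA (app A 2) (app A 4) (orth_app hA o2) (orth_app hA o4)
    (by rw [(lin A 2 4).1]; exact model_facts.2.2.1.1) (by rw [← hev, hinv]) (by rw [← hev, hinv])
    (fun v _ => by rw [← hev, ← hev]; exact (congrArg (fun g : S => app g v) hc.eq : _))
  obtain ⟨⟨u, w, -⟩, -⟩ := cand_orth i
  exact ⟨i, ext_fix hA (sh_fix u w) fun v hv => (hev v).trans (hi'' v hv)⟩

theorem eq_cB {A : S} (hA : Fix A) (h2 : A * A = 1) (hi : A * ax2 * A = ax2⁻¹)
    (hc : Commute A ax1) : ∃ j, A = el (cB j) := by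
  obtain ⟨o2, o4, -⟩ := model_facts.1
  obtain ⟨-, -, -, -, e12, e14, e16, e32⟩ := model_facts.2.2.2.2.1
  have hinv : ∀ v, app A (app A v) = v := fun v => (congrArg (fun g : S => app g v) h2 : _)
  have hi' : A * ax2 = iax2 * A := by
    rw [← ax_inv.2, ← hi]
    calc A * ax2 = A * ax2 * (A * A) := by rw [h2, mul_one]
      _ = _ := by group
  have a18 : app A 18 = app iax2 (app A 2) := by
    rw [← e12]; exact (congrArg (fun g : S => app g 2) hi' : _)
  have a36 : app A 36 = app iax2 (app A 4) := by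
    rw [← e14]; exact (congrArg (fun g : S => app g 4) hi' : _)
  have a16 : app A 16 = vadd (app A 2) (app iax2 (app A 2)) := by
    rw [← a18, ← (lin A 2 18).2.1, e16]
  have a32 : app A 32 = vadd (app A 4) (app iax2 (app A 4)) := by
    rw [← a36, ← (lin A 4 36).2.1, e32]
  have hev : ∀ y, app A y = ev (app A 2) (vadd (app A 2) (app iax2 (app A 2))) (app A 4)
      (vadd (app A 4) (app iax2 (app A 4))) y := fun y => by rw [app_eq_ev hA y, a16, a32]
  obtain ⟨j, hj⟩ := candB (app A 2) (app A 4) (orth_app hA o2) (orth_app hA o4)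
    (by rw [(lin A 2 4).1]; exact model_facts.2.2.1.1) (by rw [← hev, hinv]) (by rw [← hev, hinv])
    (fun v _ => by rw [← hev, ← hev]; exact (congrArg (fun g : S => app g v) hc.eq : _))
  obtain ⟨-, u, w, -⟩ := cand_orth j
  exact ⟨j, ext_fix hA (sh_fix u w) fun v hv => (hev v).trans (hj v hv)⟩

theorem px_rel : tvS 16 = tvS 2 * px 1 ∧ tvS 32 = tvS 4 * px 2 := by
  refine ⟨?_, ?_⟩
  · show tvS 16 = tvS 2 * (tvS 2 * tvS 16)
    rw [← mul_assoc, tvS_sq, one_mul]
  · show tvS 32 = tvS 4 * (tvS 4 * tvS 32)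
    rw [← mul_assoc, tvS_sq, one_mul]

theorem px_inv (x : Fin 64) (v : Fin 64) : tvS x * (tvS x * tvS v) * tvS x = (tvS x * tvS v)⁻¹ := by
  rw [← mul_assoc (tvS x) (tvS x) (tvS v), tvS_sq, one_mul, mul_inv_rev, inv_eq_of_mul_eq_one_right (tvS_sq x),
    inv_eq_of_mul_eq_one_right (tvS_sq v)]

end Pin

open Pin in
theorem exists_pin {G : Type u} [Group G] (φ Φ : S →* G) (hφ : Function.Injective φ)
    (hΦ : Function.Injective Φ) (hsub : ∀ m : S, m * m = 1 → Fix m → ∃ s, Fix s ∧ φ m = Φ s)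
    (h1 : φ (px 1) = Φ (px 1 * (px 2)⁻¹)) (h2 : φ (px 2) = Φ ((px 1)⁻¹ * (px 2)⁻¹)) :
    ∃ s0 : S, Fix s0 ∧ φ (tvS 2) = Φ (s0 * sh 2 32 * s0⁻¹) ∧ φ (tvS 16) = Φ (s0 * sh 4 16 * s0⁻¹) ∧
      φ (sh 4 16) = Φ (s0 * tvS 4 * s0⁻¹) ∧ φ (sh 2 32) = Φ (s0 * tvS 32 * s0⁻¹) := by
  obtain ⟨⟨o2, o4, o16, o32, o20, o34, o6, o48⟩, ⟨g20, g34⟩,
    ⟨c24, c232, c416, c204, c2016, c342, c3432⟩, ⟨v20, v34⟩, ⟨fa1, fa2, -⟩,
    ⟨n2, n4, n20, n34, n204, n2016, n342, n3432⟩⟩ := model_facts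
  have hpull : ∀ x, Orth x → ∃ s, Fix s ∧ φ (tvS x) = Φ s := fun x hx =>
    hsub _ (tvS_sq x) (tv_fix x hx)
  have hsq : ∀ {x s}, φ (tvS x) = Φ s → s * s = 1 := fun {x s} e => hΦ (by
    rw [map_mul, ← e, ← map_mul, tvS_sq, map_one, map_one])
  have hne1 : ∀ {x s}, φ (tvS x) = Φ s → tvS x ≠ 1 → s ≠ 1 := fun {x s} e hn hs => hn (hφ (by
    rw [e, hs, map_one, map_one]))
  have hcomm : ∀ {p q s s'}, φ p = Φ s → φ q = Φ s' → Commute p q → Commute s s' :=
    fun {p q s s'} e e' hc => hΦ (by rw [map_mul, map_mul, ← e, ← e', ← map_mul, ← map_mul, hc.eq])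
  obtain ⟨A, fA, eA⟩ := hpull 2 o2
  obtain ⟨A', fA', eA'⟩ := hpull 4 o4
  obtain ⟨i, rfl⟩ := eq_cA fA (hsq eA)
    (hΦ (by
      rw [map_mul, map_mul, ← eA, ← h1, map_inv, ← h1, ← map_mul, ← map_mul, ← map_inv]
      exact congrArg φ (px_inv 2 16)))
    (hcomm eA h2 ((tvS_comm c24).mul_right (tvS_comm c232)))
  obtain ⟨j, rfl⟩ := eq_cB fA' (hsq eA')
    (hΦ (by
      rw [map_mul, map_mul, ← eA', ← h2, map_inv, ← h2, ← map_mul, ← map_mul, ← map_inv]
      exact congrArg φ (px_inv 4 32)))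
    (hcomm eA' h1 ((tvS_comm c24).symm.mul_right (tvS_comm c416)))
  set A := el (cA i) with hA
  set A' := el (cB j) with hA'
  obtain ⟨ob1, ob2, bb⟩ := (cand_orth j).2
  have eB : φ (tvS 16) = Φ (A * ax1) := by
    rw [px_rel.1, map_mul, map_mul, eA, h1]
  have eB' : φ (tvS 32) = Φ (A' * ax2) := by
    rw [px_rel.2, map_mul, map_mul, eA', h2]
  -- the transvections `20`, `34` are conjugates of `4`
  have hconj : ∀ {x y}, Orth x → Orth y → ∀ {v}, app (tvS x * tvS y) 4 = v →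
      ∃ u w, Orth u ∧ Orth w ∧ bil u w = false ∧ φ (tvS v) = Φ (sh u w) := by
    intro x y hx hy v hv
    obtain ⟨s, fs, es⟩ := hpull x hx
    obtain ⟨t, ft, et⟩ := hpull y hy
    have fst' : Fix (s * t) := fix_mul fs ft
    refine ⟨app (s * t) (cB j).1, app (s * t) (cB j).2, orth_app fst' ob1, orth_app fst' ob2,
      by rw [(lin (s * t) _ _).1]; exact bb, ?_⟩
    have est : φ (tvS x * tvS y) = Φ (s * t) := by rw [map_mul, map_mul, es, et]
    rw [← hv, ← Lift.tvS_conj, ← sh_conj, map_mul, map_mul, map_inv, est, eA', map_mul Φ (s * t * A'),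
      map_mul Φ (s * t) A', map_inv]
  obtain ⟨u, w, hu, hw, huw, eX⟩ := hconj o48 o32 g20
  obtain ⟨u', w', hu', hw', huw', eY⟩ := hconj o6 o32 g34
  have fX := sh_fix hu hw
  have fY := sh_fix hu' hw'
  have hdiff : ∀ {p q s s'}, φ p = Φ s → φ q = Φ s' → p ≠ q → s ≠ s' :=
    fun {p q s s'} e e' hn h => hn (hφ (by rw [e, e', h]))
  have fB : Fix (A * ax1) := fix_mul fA fa1
  have fB' : Fix (A' * ax2) := fix_mul fA' fa2
  have rX := rowX i j u w hu hw huw (ne_fix fX one_fix (hne1 eX n20))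
    (fun v _ => (congrArg (fun g : S => app g v) (hcomm eX eA' (tvS_comm c204)).eq : _))
    (fun v _ => (congrArg (fun g : S => app g v) (hcomm eX eB (tvS_comm c2016)).eq : _))
    (ne_fix fX fA' (hdiff eX eA' n204)) (ne_fix fX fB (hdiff eX eB n2016))
  have rY := rowY i j u' w' hu' hw' huw' (ne_fix fY one_fix (hne1 eY n34))
    (fun v _ => (congrArg (fun g : S => app g v) (hcomm eY eA (tvS_comm c342)).eq : _))
    (fun v _ => (congrArg (fun g : S => app g v) (hcomm eY eB' (tvS_comm c3432)).eq : _))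
    (ne_fix fY fA (hdiff eY eA n342)) (ne_fix fY fB' (hdiff eY eB' n3432))
  set s0 := cj i j
  have f0 : Fix s0 := cj_fix i j
  refine ⟨s0, f0, ?_, ?_, ?_, ?_⟩
  · rw [eA, sh_conj]
    exact congrArg Φ (ext_fix fA (sh_fix (orth_app f0 o2) (orth_app f0 o32)) (rowA i j).1)
  · rw [eB, sh_conj]
    exact congrArg Φ (ext_fix fB (sh_fix (orth_app f0 o4) (orth_app f0 o16)) (rowA i j).2)
  · rw [Lift.tvS_conj, show sh 4 16 = tvS 4 * tvS 16 * tvS 20 by rw [sh, v20], map_mul, map_mul, eA', eB, eX,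
      ← map_mul, ← map_mul]
    exact congrArg Φ (ext_fix (fix_mul (fix_mul fA' fB) fX) (tv_fix _ (orth_app f0 o4)) rX)
  · rw [Lift.tvS_conj, show sh 2 32 = tvS 2 * tvS 32 * tvS 34 by rw [sh, v34], map_mul, map_mul, eA, eB', eY,
      ← map_mul, ← map_mul]
    exact congrArg Φ (ext_fix (fix_mul (fix_mul fA fB') fY) (tv_fix _ (orth_app f0 o32)) rY)

end Cfsg.Agent.FFourLocal.CTSix
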