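import Cfsg.Agent.Lib.FFourLocal.CTInterface
import Cfsg.Agent.Lib.FFourLocal.Lift.Model

/-!
# The pin: facts in the model of `Sp₆(2)`

`Fix` is the stabilizer of the first plane, `Sp₄(2)` on the other two. An involution there inverting one of
`ax1 = px₁ px₂⁻¹`, `ax2 = (px₁ px₂)⁻¹` and centralizing the other is one of three short root elements.
-/

set_option autoImplicit false
set_option maxRecDepth 100000
set_option synthInstance.maxSize 100000
set_option synthInstance.maxHeartbeats 400000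
set_option linter.style.longLine false

namespace Cfsg.Agent.FFourLocal.CTSix

open Cfsg.Agent.SpThreeCent.SixEnd
open Cfsg.Agent.FFourLocal.Lift (app combo lin pr)

/-- Fixing the first plane. -/
def Fix (s : S) : Prop := app s 1 = 1 ∧ app s 8 = 8

instance (s : S) : Decidable (Fix s) := inferInstanceAs (Decidable (_ ∧ _))

namespace Pin

/-- The image of `px 1`. -/
abbrev ax1 : S := px 1 * (px 2)⁻¹

/-- The image of `px 2`. -/
abbrev ax2 : S := (px 1)⁻¹ * (px 2)⁻¹

/-- The inverse of `ax1`. -/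
abbrev iax1 : S := px 2 * (px 1)⁻¹

/-- The inverse of `ax2`. -/
abbrev iax2 : S := px 2 * px 1

/-- Orthogonal to the first plane. -/
def Orth (v : Fin 64) : Prop := bil v 1 = false ∧ bil v 8 = false

instance (v : Fin 64) : Decidable (Orth v) := inferInstanceAs (Decidable (_ ∧ _))

/-- The vectors determining an element of `Fix`. -/
def four : List (Fin 64) := [2, 4, 16, 32]

/-- The exponents of a vector in the basis `[1, 8, 2, 16, 4, 32]`. -/
def crd (y : Fin 64) : ℕ :=
  y.val % 2 + 2 * (y.val / 8 % 2) + 4 * (y.val / 2 % 2) + 8 * (y.val / 16 % 2) + 16 * (y.val / 4 % 2) +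
    32 * (y.val / 32 % 2)

theorem crd_spec : ∀ y, combo Lift.bas (crd y) = y := by decide +kernel

/-- The linear map fixing `1`, `8` with the given images of `2`, `16`, `4`, `32`. -/
def ev (p r q s y : Fin 64) : Fin 64 := combo [1, 8, p, r, q, s] (crd y)

theorem app_combo' (g : S) : ∀ (l : List (Fin 64)) (m : ℕ),
    app g (combo l m) = combo (l.map (app g)) m
  | [], _ => by rw [combo, List.map_nil, combo, (lin g 0 0).2.2]
  | v :: l, m => by
    rw [combo, List.map_cons, combo]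
    split
    · rw [(lin g _ _).2.1, app_combo' g l]
    · rw [app_combo' g l]

theorem app_eq_ev {g : S} (hg : Fix g) (y : Fin 64) :
    app g y = ev (app g 2) (app g 16) (app g 4) (app g 32) y := by
  conv_lhs => rw [← crd_spec y]
  rw [app_combo', ev]
  simp only [Lift.bas, List.map_cons, List.map_nil, hg.1, hg.2]

theorem ext_fix {g h : S} (hg : Fix g) (hh : Fix h) (e : ∀ v ∈ four, app g v = app h v) : g = h := by
  refine Lift.ext_bas g h fun v hv => ?_
  simp only [Lift.bas, List.mem_cons, List.not_mem_nil, or_false] at hv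
  rcases hv with rfl | rfl | rfl | rfl | rfl | rfl
  · rw [hg.1, hh.1]
  · rw [hg.2, hh.2]
  all_goals exact e _ (by simp [four])

theorem orth_app {g : S} (hg : Fix g) {v : Fin 64} (hv : Orth v) : Orth (app g v) := by
  refine ⟨?_, ?_⟩
  · rw [← hg.1, (lin g v 1).1]; exact hv.1
  · rw [← hg.2, (lin g v 8).1]; exact hv.2

theorem tv_fix : ∀ x : Fin 64, Orth x → Fix (tvS x) := by decide +kernel

theorem fix_mul {g h : S} (hg : Fix g) (hh : Fix h) : Fix (g * h) := by
  constructor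
  · show app g (app h 1) = 1
    rw [hh.1, hg.1]
  · show app g (app h 8) = 8
    rw [hh.2, hg.2]

theorem fix_inv {g : S} (hg : Fix g) : Fix g⁻¹ := by
  constructor
  · show (app g).symm 1 = 1
    rw [Equiv.symm_apply_eq, hg.1]
  · show (app g).symm 8 = 8
    rw [Equiv.symm_apply_eq, hg.2]

theorem sh_fix {u w : Fin 64} (hu : Orth u) (hw : Orth w) : Fix (sh u w) :=
  fix_mul (fix_mul (tv_fix u hu) (tv_fix w hw)) (tv_fix _
    ((by decide +kernel : ∀ u w : Fin 64, Orth u → Orth w → Orth (vadd u w)) u w hu hw))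

theorem sh_conj (g : S) (u w : Fin 64) : g * sh u w * g⁻¹ = sh (app g u) (app g w) := by
  rw [sh, sh, show g * (tvS u * tvS w * tvS (vadd u w)) * g⁻¹ =
      (g * tvS u * g⁻¹) * (g * tvS w * g⁻¹) * (g * tvS (vadd u w) * g⁻¹) by group,
    Lift.tvS_conj, Lift.tvS_conj, Lift.tvS_conj, (lin g u w).2.1]

/-- The candidates for the image of `tvS 2`. -/
def cA : Fin 3 → Fin 64 × Fin 64 := ![(22, 34), (20, 38), (6, 48)]

/-- The candidates for the image of `tvS 4`. -/
def cB : Fin 3 → Fin 64 × Fin 64 := ![(20, 34), (22, 38), (6, 50)]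

/-- The conjugating elements. -/
def conjTab : Fin 3 → Fin 3 → List (Fin 64) :=
  ![![[48, 32, 16, 6], [34, 20], [54, 6, 4, 2]],
    ![[50, 22, 6, 2], [52, 16, 6, 4], [38, 36, 20, 4]],
    ![[38, 18, 6, 4], [50, 32, 6, 2], [48, 22, 18, 2]]]

/-- The short root element of a pair. -/
abbrev el (p : Fin 64 × Fin 64) : S := sh p.1 p.2

/-- The conjugating element of two candidates. -/
abbrev cj (i j : Fin 3) : S := pr (conjTab i j)

theorem candA : ∀ p q : Fin 64, Orth p → Orth q → bil p q = false →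
    ev p (app iax1 p) q (vadd q (app iax1 q)) p = 2 → ev p (app iax1 p) q (vadd q (app iax1 q)) q = 4 →
    (∀ v ∈ [(2 : Fin 64), 4], ev p (app iax1 p) q (vadd q (app iax1 q)) (app ax2 v) =
      app ax2 (ev p (app iax1 p) q (vadd q (app iax1 q)) v)) →
    ∃ i : Fin 3, ∀ v ∈ four, ev p (app iax1 p) q (vadd q (app iax1 q)) v = app (el (cA i)) v := by
  decide +kernel

theorem candB : ∀ p q : Fin 64, Orth p → Orth q → bil p q = false →
    ev p (vadd p (app iax2 p)) q (vadd q (app iax2 q)) p = 2 →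
    ev p (vadd p (app iax2 p)) q (vadd q (app iax2 q)) q = 4 →
    (∀ v ∈ [(2 : Fin 64), 4], ev p (vadd p (app iax2 p)) q (vadd q (app iax2 q)) (app ax1 v) =
      app ax1 (ev p (vadd p (app iax2 p)) q (vadd q (app iax2 q)) v)) →
    ∃ i : Fin 3, ∀ v ∈ four, ev p (vadd p (app iax2 p)) q (vadd q (app iax2 q)) v = app (el (cB i)) v := by
  decide +kernel

theorem cand_orth : ∀ i, (Orth (cA i).1 ∧ Orth (cA i).2 ∧ bil (cA i).1 (cA i).2 = false) ∧
    (Orth (cB i).1 ∧ Orth (cB i).2 ∧ bil (cB i).1 (cB i).2 = false) := by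
  decide +kernel

theorem cj_fix : ∀ i j, Fix (cj i j) := by decide +kernel

theorem rowA : ∀ i j, (∀ v ∈ four, app (el (cA i)) v = app (sh (app (cj i j) 2) (app (cj i j) 32)) v) ∧
    ∀ v ∈ four, app (el (cA i)) (app ax1 v) = app (sh (app (cj i j) 4) (app (cj i j) 16)) v := by
  decide +kernel

theorem rowX : ∀ i j, ∀ u w : Fin 64, Orth u → Orth w → bil u w = false →
    (¬ ∀ v ∈ four, app (sh u w) v = v) →
    (∀ v ∈ four, app (sh u w) (app (el (cB j)) v) = app (el (cB j)) (app (sh u w) v)) →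
    (∀ v ∈ four, app (sh u w) (app (el (cA i)) (app ax1 v)) =
      app (el (cA i)) (app ax1 (app (sh u w) v))) →
    (¬ ∀ v ∈ four, app (sh u w) v = app (el (cB j)) v) →
    (¬ ∀ v ∈ four, app (sh u w) v = app (el (cA i)) (app ax1 v)) →
    ∀ v ∈ four, app (el (cB j)) (app (el (cA i)) (app ax1 (app (sh u w) v))) =
      app (tvS (app (cj i j) 4)) v := by
  decide +kernel

theorem rowY : ∀ i j, ∀ u w : Fin 64, Orth u → Orth w → bil u w = false →
    (¬ ∀ v ∈ four, app (sh u w) v = v) →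
    (∀ v ∈ four, app (sh u w) (app (el (cA i)) v) = app (el (cA i)) (app (sh u w) v)) →
    (∀ v ∈ four, app (sh u w) (app (el (cB j)) (app ax2 v)) =
      app (el (cB j)) (app ax2 (app (sh u w) v))) →
    (¬ ∀ v ∈ four, app (sh u w) v = app (el (cA i)) v) →
    (¬ ∀ v ∈ four, app (sh u w) v = app (el (cB j)) (app ax2 v)) →
    ∀ v ∈ four, app (el (cA i)) (app (el (cB j)) (app ax2 (app (sh u w) v))) =
      app (tvS (app (cj i j) 32)) v := by
  decide +kernel

/-- The relations of the model used below. -/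
theorem model_facts :
    (Orth 2 ∧ Orth 4 ∧ Orth 16 ∧ Orth 32 ∧ Orth 20 ∧ Orth 34 ∧ Orth 6 ∧ Orth 48) ∧
    (app (tvS 48 * tvS 32) 4 = 20 ∧ app (tvS 6 * tvS 32) 4 = 34) ∧
    (bil 2 4 = false ∧ bil 2 32 = false ∧ bil 4 16 = false ∧ bil 20 4 = false ∧ bil 20 16 = false ∧
      bil 34 2 = false ∧ bil 34 32 = false) ∧
    (vadd 4 16 = 20 ∧ vadd 2 32 = 34) ∧
    (Fix ax1 ∧ Fix ax2 ∧ app ax1 2 = 16 ∧ app ax1 4 = 36 ∧ app ax2 2 = 18 ∧ app ax2 4 = 36 ∧
      vadd 2 18 = 16 ∧ vadd 4 36 = 32) ∧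
    (tvS 2 ≠ 1 ∧ tvS 4 ≠ 1 ∧ tvS 20 ≠ 1 ∧ tvS 34 ≠ 1 ∧ tvS 20 ≠ tvS 4 ∧ tvS 20 ≠ tvS 16 ∧
      tvS 34 ≠ tvS 2 ∧ tvS 34 ≠ tvS 32) := by
  decide +kernel

theorem ax_inv : ax1⁻¹ = iax1 ∧ ax2⁻¹ = iax2 := by
  constructor <;> simp [ax1, ax2, iax1, iax2]

end Pin

end Cfsg.Agent.FFourLocal.CTSix
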